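import Cfsg.Agent.SporB.ON.Q.Check0

set_option autoImplicit false
set_option maxRecDepth 100000

namespace Cfsg.Agent.CosetEnum.ON.Q

theorem dok0 : allRange sys.checkDef 0 23 = true := by decide +kernel

def fchunks : List (ℕ × ℕ) := [(57, fv0)]

def rchunks : List (ℕ × ℕ) := [(1, rv0)]

theorem factsOK : sys.FactsOK21 23 fchunks := ⟨fok0, trivial⟩

theorem rowsOK : sys.RowsOK21 1 80 0 rchunks := ⟨rok0, trivial⟩

theorem cert : Cert sys 1 23 80 :=
  Cert.of_chunks21 [23] fchunks rchunks (by decide) ⟨dok0, trivial⟩ (by decide +kernel) factsOK (by decide +kernel) rowsOK (by decide +kernel)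

theorem rules_ok : sys.rules.all (fun R => R.check sys rels subs) = true := by decide +kernel

theorem invs_eq : (List.range 9).map sys.inv = [1, 0, 2, 3, 4, 5, 6, 7, 8] := by decide +kernel

end Cfsg.Agent.CosetEnum.ON.Q
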