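import Cfsg.Agent.SporB.ON.Q.Data

set_option autoImplicit false
set_option maxRecDepth 100000

namespace Cfsg.Agent.CosetEnum.ON.Q

def fv0 : ℕ := 0xd40009d0004b80000c0000000001000080000b0001360005c0000180000000016000130004b00026000004000000000b0000400012400097000310001600005600005000000000580003e000620002c00025400006000000000b800040000000000a00048000030000d40005d00031000160000560002d000490000280002e0001e000478000a8000140000100031000160000140000100031000160000560002d000060000b00011c000020000b80007400002000620002c0000ac0005a0008f0001680001c000180006a0002e800000000d40005d00031000160000560008e0000500005c000380008a0004600000800058000010000b00006c000000002a0002c80018c001080007b0002f800188000b00002b00004800058000340000000015000164000c6000840003d8000e000056000070000b000064000d40008700001000000000060001000009800214000b8000030000000002c00026000820003d000008000000000a00008000000000700005900031800000000fc000100003c000128000880005f00031000160000720008100028800018000fc000100003c000128000880005f0000b000004000300000800035000174000bc0004500025800140000100000100031000160000140006a0001b800038000be000010000080005c000d40007d0003680000c000000000900008000060000f2000150000180000000016000120000b0001e400026000030000000002800026000700003b00014400006000000000200004000044000750001700000c000000000500008800148000e4000020000000004400020000240003880008400006000000000880003c000ce0006e0000100000000024000100001d8001b4000a4000240000200000000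0240000f000348001580000400000000068000400001e000660000a80000c000000000b000090000f0000cc0001100001800000000120000e0001f80019000024000030000000000c000260001c0002c80018c000b4000040000000002800024000600002c8000080000000002000080001780002c00050000040000140002a0005d00003800028000a80001e0000b80017c0000a000010000b00000000070000590001a80017400008000010000a80000000028000130002d80000c00002000080000000000c00004000300002c800008000040001400020000154000160000300000000018000260001a0002880006400006000000000680004800012000510000f80000c0000000010000070000b8000a2000430000180000000026000110002500013c0000400000000028000400008e0004c0001380000c0000000014000078000a0000960001f00001800000000200000e0000b8001140005200003000220000580003e000410000100002c00092000070000a800034000000000a0000480011c00006000150000580000000010000070000f80009c00052000050000a80003000000000160000f80009c0000600014000058000000000c000050001080008c0004a00005000098000280000400007000010000780000200004000048000000001c0000b0000e80000c0001e0000800000000038000120001b000018000380000e000000000700001c000320000300006800018000000000a0000380005c000060000c000028000000000a000020000a0000040000600004000000000080001e000330000180002c0000600000000070000140002a0000300005800008000000000a0000280004c000060000a0000080000000010000050000880000c0001200000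
theorem fok0 : sys.checkFacts21 23 57 fv0 = true := by decide +kernel

def rv0 : ℕ := 0x220000ce0000e0000180024000018000020004f000188000b00000a00002000220000f0000500000400001000110000780000300000c001100000400001000278000c400002000018002780000000002
theorem rok0 : sys.checkRows21 1 80 0 1 rv0 = true := by decide +kernel

end Cfsg.Agent.CosetEnum.ON.Q
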