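import Cfsg.Agent.Lib.CosetEnum.Cox
import Cfsg.Agent.Lib.CosetEnum.Check21

set_option autoImplicit false
set_option maxRecDepth 100000

namespace Cfsg.Agent.CosetEnum.ON.Q

def fxL0 : ℕ := 0x40000000000a00005c0002d0000020002c800017000164000008000ba00005c00018c0002e0002e8000000000700000b0000b90000580005860002c0002c8000000000340000180005a00000400029000002000181000050000c40000000004a0000340002d000018000148000030000440000900002a000024000450000260002280000300012400004000092000024000350000000001680000e0000940000400001a00003c0002900000200004800001000062000008000614000040002ce00002000148000020000640000700006a0000000004100001200026800004000054000028000a200005400041000008000280000150000618000a8000280000500003040002600008500002000102800078000410000380002060001a0001030000c0000608000080005840002c000084000160001020000a0000610000480002940005c00058c0002c0000c4000150001418000a000080c0004c000484000240002230001100003200008000021c0003c00018e0001c0000a70000d00004280006000021c0002c0000ca00014000064000090000338000400000180001c00000a0000c000004000050000018000200000080000c000002000040000000000100000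
def fx : PTree := (.leaf fxL0)
def rule0 : Rule := ⟨2, [4,2,4], [], false, 4, 1⟩
def rule1 : Rule := ⟨2, [5,2,5], [], false, 5, 1⟩
def rule2 : Rule := ⟨2, [7,2,7], [], false, 7, 1⟩
def rule3 : Rule := ⟨1, [2,7,1], [], false, 23, 0⟩
def rule4 : Rule := ⟨1, [7], [2,0], false, 23, 1⟩
def rule5 : Rule := ⟨3, [5,3,5], [], false, 10, 1⟩
def rule6 : Rule := ⟨3, [7,3,7], [], false, 12, 1⟩
def rule7 : Rule := ⟨4, [7,4,7], [], false, 16, 1⟩
def rule8 : Rule := ⟨5, [7,5,7], [], false, 19, 1⟩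
def rule9 : Rule := ⟨5, [4], [3,1], false, 30, 1⟩
def rule10 : Rule := ⟨2, [3,2,3,2,3], [], false, 3, 1⟩
def rule11 : Rule := ⟨0, [3,4,5], [], false, 30, 0⟩
def rule12 : Rule := ⟨3, [4,3,4,3,4], [], false, 9, 1⟩
def rule13 : Rule := ⟨8, [1,5,1,5,4,5,0], [4,1,5], false, 25, 1⟩
def rule14 : Rule := ⟨8, [], [4,4], false, 13, 0⟩
def rule15 : Rule := ⟨8, [], [3,3], false, 8, 0⟩
def rule16 : Rule := ⟨8, [], [], false, 31, 0⟩
def rule17 : Rule := ⟨8, [], [2,2], false, 2, 0⟩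
def rule18 : Rule := ⟨8, [], [7,7], false, 22, 0⟩
def rule19 : Rule := ⟨8, [], [5,5], false, 17, 0⟩
def rule20 : Rule := ⟨7, [2], [0,0], false, 23, 0⟩
def rule21 : Rule := ⟨4, [5,0,3], [], false, 30, 2⟩
def rule22 : Rule := ⟨8, [4,5,4,5], [5,7,2,4,5,4], false, 24, 3⟩
def rule23 : Rule := ⟨1, [4], [0,5,1,4,1,4,5,4], false, 26, 2⟩
def rule24 : Rule := ⟨8, [4,0,4,3,0,3,4,0,4,0,3], [], false, 28, 2⟩
def rule25 : Rule := ⟨3, [6,3,6], [], false, 11, 1⟩
def rule26 : Rule := ⟨4, [6,4,6], [], false, 15, 1⟩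
def rule27 : Rule := ⟨0, [5], [4,3], false, 30, 2⟩
def rule28 : Rule := ⟨8, [0,6,5,0,5,6], [5,1,5,6,1], false, 29, 0⟩
def rule29 : Rule := ⟨6, [0,5], [5,6,1,5,1,5,6,1], false, 29, 3⟩
def rule30 : Rule := ⟨8, [6,5,6,5,6,5], [], false, 18, 1⟩
def rule31 : Rule := ⟨8, [], [6,6], false, 20, 0⟩
def rules : DTree Rule := (.node 16 (.node 8 (.node 4 (.node 2 (.node 1 (.leaf rule0) (.leaf rule1)) (.node 1 (.leaf rule2) (.leaf rule3))) (.node 2 (.node 1 (.leaf rule4) (.leaf rule5)) (.node 1 (.leaf rule6) (.leaf rule7)))) (.node 4 (.node 2 (.node 1 (.leaf rule8) (.leaf rule9)) (.node 1 (.leaf rule10) (.leaf rule11))) (.node 2 (.node 1 (.leaf rule12) (.leaf rule13)) (.node 1 (.leaf rule14) (.leaf rule15))))) (.node 8 (.node 4 (.node 2 (.node 1 (.leaf rule16) (.leaf rule17)) (.node 1 (.leaf rule18) (.leaf rule19))) (.node 2 (.node 1 (.leaf rule20) (.leaf rule21)) (.node 1 (.leaf rule22) (.leaf rule23)))) (.node 4 (.node 2 (.node 1 (.leaf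 rule24) (.leaf rule25)) (.node 1 (.leaf rule26) (.leaf rule27))) (.node 2 (.node 1 (.leaf rule28) (.leaf rule29)) (.node 1 (.leaf rule30) (.leaf rule31))))))
def sys : Sys := ⟨8, 0x8398a418801, fx, rules⟩
def rels : List (List ℕ) := [[0,1],
  [1,0],
  [2,2],
  [2,3,2,3,2,3],
  [2,4,2,4],
  [2,5,2,5],
  [2,6,2,6],
  [2,7,2,7],
  [3,3],
  [3,4,3,4,3,4],
  [3,5,3,5],
  [3,6,3,6],
  [3,7,3,7],
  [4,4],
  [4,5,4,5,4,5,4,5,4,5,4,5,4,5,4,5],
  [4,6,4,6],
  [4,7,4,7],
  [5,5],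
  [5,6,5,6,5,6],
  [5,7,5,7],
  [6,6],
  [6,7,6,7,6,7],
  [7,7],
  [2,7,1,1],
  [2,7,5,4,5,4,5,4,5,4],
  [4,1,5,1,5,4,5,0,5,0],
  [5,1,4,1,4,5,4,0,4,0],
  [3,4,5,0,3,4,5,0,3,4,5,0,3,4,5,0,3,4,5,0],
  [0,3,4,0,4,3,0,3,4,0,4],
  [0,6,5,0,5,6,0,6,5,0,5],
  [3,4,5,0]]
def subs : List (List ℕ) := []

end Cfsg.Agent.CosetEnum.ON.Q
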